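import Cfsg.Agent.CosetCert.Pack

/-! Generated: the justifications. -/

namespace Cfsg.Agent.Fi23Mult.W4

open Cfsg.Agent.CosetCert

def justStore : Store := (.leaf 0x1a00002800008040204000050000160000180000a0000202008080001480000200001800004080208000030000000000701020200000b00000a00000001dd001dd001dd001dd001dd001dd001dd001dd001dd001dd001dd001dd001dd001dd001dd001dd001dd001dd001dd001dd001dd001dd001dd001dd001dd001dd001dd001dd001dd001dd001dd001dd001dd001dd001dd001dd001dd001dd001dd001dd001dd001dd001dd001dd001dd001dd001dd001dd001dd001dd001dd001dd001dd001dd001dd001dd00181000fb00089000300001800000000000000000000)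

end Cfsg.Agent.Fi23Mult.W4
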