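import Cfsg.Agent.CosetCert.Pack

/-! Generated: the table. -/

namespace Cfsg.Agent.Fi23Mult.W4

open Cfsg.Agent.CosetCert

def edgeStore : Store := (.leaf 0x1000003000000e00003000000500002000000c00002000000300001000000400003000000100000000000200002000000a00001000000000001000000800000000000600000)

def repStore : Store := (.leaf 0x3000000000002000000000001000000000000)

def treeStore : Store := (.leaf 0x40000000000021000000000002000000000000)

end Cfsg.Agent.Fi23Mult.W4
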